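import Groth.Agent.Lib.Cech24.Derived

/-!
# Čech cohomology in terms of cocycles
-/

universe w v u

open CategoryTheory CategoryTheory.Limits Opposite

namespace Groth.Agent.Cech24

variable {C : Type u} [Category.{v} C] {U : C} [HasFiniteProducts (Over U)] {ι : Type w}
  (Uf : ι → Over U) (P : Cᵒᵖ ⥤ AddCommGrpCat.{w})

lemma dCochain_eq {n : ℕ} (c : ∀ a : Fin (n + 1) → ι, P.obj (op (pr Uf a).left)) :
    ∃ x : (EtCech.cechComplex Uf P).X n, (∀ a, comp' Uf P a x = c a) ∧
      ∀ a, comp' Uf P a ((EtCech.cechComplex Uf P).d n (n + 1) x) = dCochain Uf P c a := by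
  obtain ⟨x, hx⟩ := exists_pi' (G := fun a : Fin (n + 1) → ι => P.obj (op (pr Uf a).left)) c
  refine ⟨x, hx, fun a => (comp_d Uf P x a).trans ?_⟩
  rw [show (fun b => comp' Uf P b x) = c from funext hx]

lemma dCochain_dCochain {n : ℕ} (c : ∀ a : Fin (n + 1) → ι, P.obj (op (pr Uf a).left)) :
    dCochain Uf P (dCochain Uf P c) = 0 := by
  obtain ⟨x, -, hd⟩ := dCochain_eq Uf P c
  funext a
  rw [show dCochain Uf P c = fun b => comp' Uf P b ((EtCech.cechComplex Uf P).d n (n + 1) x) from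
    funext fun b => (hd b).symm]
  refine (comp_d Uf P _ a).symm.trans ?_
  rw [← ConcreteCategory.comp_apply ((EtCech.cechComplex Uf P).d n (n + 1)), HomologicalComplex.d_comp_d]
  exact map_zero (comp' Uf P a).hom

theorem exists_of_isZero {n : ℕ} (h : IsZero (EtCech.cechH Uf P (n + 1)))
    (c : ∀ a : Fin (n + 2) → ι, P.obj (op (pr Uf a).left)) (hc : dCochain Uf P c = 0) :
    ∃ b, dCochain Uf P b = c := by
  have he := ((EtCech.cechComplex Uf P).exactAt_iff_isZero_homology (n + 1)).2 h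
  rw [(EtCech.cechComplex Uf P).exactAt_iff' n (n + 1) (n + 2) (by simp) (by simp),
    ShortComplex.ab_exact_iff] at he
  obtain ⟨x, hx, hd⟩ := dCochain_eq Uf P c
  obtain ⟨y, hy⟩ := he x (pi_ext' (G := fun a : Fin (n + 3) → ι => P.obj (op (pr Uf a).left))
    fun a => (hd a).trans ((congrFun hc a).trans (map_zero _).symm))
  exact ⟨fun a => comp' Uf P a y, funext fun a =>
    (comp_d Uf P y a).symm.trans ((congrArg (comp' Uf P a) hy).trans (hx a))⟩

theorem isZero_of_exists {n : ℕ}
    (h : ∀ c : ∀ a : Fin (n + 2) → ι, P.obj (op (pr Uf a).left), dCochain Uf P c = 0 →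
      ∃ b, dCochain Uf P b = c) : IsZero (EtCech.cechH Uf P (n + 1)) := by
  refine ((EtCech.cechComplex Uf P).exactAt_iff_isZero_homology (n + 1)).1 ?_
  rw [(EtCech.cechComplex Uf P).exactAt_iff' n (n + 1) (n + 2) (by simp) (by simp), ShortComplex.ab_exact_iff]
  intro x hx
  obtain ⟨b, hb⟩ := h (fun a => comp' Uf P a x) (funext fun a =>
    (comp_d Uf P x a).symm.trans ((congrArg (comp' Uf P a) hx).trans (map_zero _)))
  obtain ⟨y, -, hy⟩ := dCochain_eq Uf P b
  exact ⟨y, pi_ext' (G := fun a : Fin (n + 2) → ι => P.obj (op (pr Uf a).left)) fun a =>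
    (hy a).trans (congrFun hb a)⟩

lemma dCochain_nat {Q : Cᵒᵖ ⥤ AddCommGrpCat.{w}} (f : P ⟶ Q) {n : ℕ}
    (c : ∀ a : Fin (n + 1) → ι, P.obj (op (pr Uf a).left)) (a : Fin (n + 2) → ι) :
    f.app _ (dCochain Uf P c a) = dCochain Uf Q (fun b => f.app _ (c b)) a := by
  rw [dCochain, map_sum]
  refine Finset.sum_congr rfl fun i _ => ?_
  rw [map_zsmul, NatTrans.naturality_apply]

lemma dCochain_sub {n : ℕ} (c c' : ∀ a : Fin (n + 1) → ι, P.obj (op (pr Uf a).left))
    (a : Fin (n + 2) → ι) : dCochain Uf P (c - c') a = dCochain Uf P c a - dCochain Uf P c' a := by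
  rw [dCochain, dCochain, dCochain, ← Finset.sum_sub_distrib]
  refine Finset.sum_congr rfl fun i _ => ?_
  rw [Pi.sub_apply, map_sub, zsmul_sub]

section Functorial

variable {D : Type*} [Category.{v} D] (G : D ⥤ C) {V : D} [HasFiniteProducts (Over V)]
  (Vf : ι → Over V) [HasFiniteProducts (Over (G.obj V))]
  [∀ n : ℕ, PreservesLimitsOfShape (Discrete (Fin n)) (Over.post (X := V) G)]

/-- A functor preserving fibre products commutes with the products of a family. -/
noncomputable def prIso {n : ℕ} (a : Fin (n + 1) → ι) :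
    G.obj (pr Vf a).left ≅ (pr (fun j => (Over.post G).obj (Vf j)) a).left :=
  (Over.forget _).mapIso (PreservesProduct.iso (Over.post (X := V) G) (Vf ∘ a))

lemma prIso_π {n : ℕ} (a : Fin (n + 1) → ι) (k : Fin (n + 1)) :
    (prIso G Vf a).hom ≫ (Pi.π ((fun j => (Over.post G).obj (Vf j)) ∘ a) k).left =
      G.map (Pi.π (Vf ∘ a) k).left :=
  congrArg Over.Hom.left (show (PreservesProduct.iso (Over.post (X := V) G) (Vf ∘ a)).hom ≫
    Pi.π ((fun j => (Over.post G).obj (Vf j)) ∘ a) k = (Over.post (X := V) G).map (Pi.π (Vf ∘ a) k) from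
    piComparison_comp_π _ _ k)

lemma prIso_face {n : ℕ} (a : Fin (n + 2) → ι) (i : Fin (n + 2)) :
    (prIso G Vf a).hom ≫ (prFace (fun j => (Over.post G).obj (Vf j)) a i).left =
      G.map (prFace Vf a i).left ≫ (prIso G Vf (a ∘ i.succAbove)).hom := by
  refine pr_hom_ext _ _ _ fun k => ?_
  have h1 := congrArg Over.Hom.left (Pi.lift_π
    (f := (fun j => (Over.post G).obj (Vf j)) ∘ a ∘ i.succAbove)
    (fun k => Pi.π ((fun j => (Over.post G).obj (Vf j)) ∘ a) (i.succAbove k)) k)
  have h2 := congrArg Over.Hom.left (Pi.lift_π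
    (f := Vf ∘ a ∘ i.succAbove) (fun k => Pi.π (Vf ∘ a) (i.succAbove k)) k)
  refine ((Category.assoc _ _ _).trans (congrArg ((prIso G Vf a).hom ≫ ·) h1)).trans ?_
  refine (prIso_π G Vf a _).trans ?_
  refine Eq.trans ?_ (Category.assoc _ _ _).symm
  refine Eq.trans ?_ (congrArg (G.map _ ≫ ·) (prIso_π G Vf _ k).symm)
  exact (congrArg G.map h2.symm).trans (G.map_comp _ _)

theorem isZero_comp {n : ℕ} (h : IsZero (EtCech.cechH (fun j => (Over.post G).obj (Vf j)) P (n + 1))) :
    IsZero (EtCech.cechH Vf (G.op ⋙ P) (n + 1)) := by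
  refine isZero_of_exists Vf _ fun c hc => ?_
  have key : ∀ {m : ℕ} (d : ∀ a : Fin (m + 1) → ι, P.obj (op (pr (fun j => (Over.post G).obj (Vf j)) a).left))
      (a : Fin (m + 2) → ι),
      P.map (prIso G Vf a).hom.op (dCochain _ P d a) =
        dCochain Vf (G.op ⋙ P) (fun b => P.map (prIso G Vf b).hom.op (d b)) a := fun {m} d a => by
    rw [dCochain, dCochain, map_sum]
    refine Finset.sum_congr rfl fun i _ => ?_
    rw [map_zsmul]
    refine congrArg _ ?_
    show _ = P.map (G.map (prFace Vf a i).left).op (P.map _ _)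
    rw [← Functor.map_comp_apply, ← Functor.map_comp_apply, ← op_comp, ← op_comp, prIso_face]
  have hinv : ∀ {m : ℕ} (a : Fin (m + 1) → ι) (z : P.obj (op (G.obj (pr Vf a).left))),
      P.map (prIso G Vf a).hom.op (P.map (prIso G Vf a).inv.op z) = z := fun a z => by
    rw [← Functor.map_comp_apply, ← op_comp, Iso.hom_inv_id, op_id, CategoryTheory.Functor.map_id]
    rfl
  obtain ⟨b, hb⟩ := exists_of_isZero _ P h (fun a => P.map (prIso G Vf a).inv.op (c a)) (funext fun a => by
    refine (ConcreteCategory.bijective_of_isIso (P.map (prIso G Vf a).hom.op)).1 ?_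
    rw [key, Pi.zero_apply, map_zero]
    simp only [hinv]
    exact congrFun hc a)
  refine ⟨fun a => P.map (prIso G Vf a).hom.op (b a), funext fun a => ?_⟩
  rw [← key, hb]
  exact hinv a (c a)

end Functorial

end Groth.Agent.Cech24
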