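import Groth.Agent.Lib.Cech24.Injective
import Groth.Agent.Lib.RDerLES.Horseshoe
import Groth.Agent.Lib.DeltaFun.Basic
import Mathlib.Algebra.Homology.HomologySequenceLemmas
import Mathlib.Algebra.Homology.ShortComplex.ExactFunctor
import Mathlib.Algebra.Category.Grp.Abelian

/-!
# Čech cohomology as derived functor of its degree zero part
-/

universe w v u

open CategoryTheory CategoryTheory.Limits Opposite DeltaF

namespace Groth.Agent.Cech24

variable {C : Type u} [Category.{v} C] {U : C} [HasFiniteProducts (Over U)] {ι : Type w}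
  (Uf : ι → Over U)

/-- The Čech complex as a functor on presheaves. -/
noncomputable abbrev cxF : (Cᵒᵖ ⥤ AddCommGrpCat.{w}) ⥤ CochainComplex AddCommGrpCat.{w} ℕ :=
  (Functor.whiskeringLeft (Over U)ᵒᵖ Cᵒᵖ AddCommGrpCat.{w}).obj (Over.forget U).op ⋙ cechComplexFunctor Uf

lemma cxF_map_comp' {P Q : Cᵒᵖ ⥤ AddCommGrpCat.{w}} (f : P ⟶ Q) {n : ℕ} (a : Fin (n + 1) → ι) :
    ((cxF Uf).map f).f n ≫ comp' Uf Q a = comp' Uf P a ≫ f.app (op (pr Uf a).left) := by
  refine (Limits.limMap_π _ _).trans ?_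
  rfl

instance additive_cxF : (cxF (C := C) Uf).Additive := ⟨fun {P Q} {f g} => by
  apply HomologicalComplex.hom_ext
  intro n
  refine Pi.hom_ext _ _ fun a => ?_
  refine (cxF_map_comp' Uf (f + g) a).trans ?_
  rw [HomologicalComplex.add_f_apply]
  refine Eq.trans ?_ (Preadditive.add_comp _ _ _ _ _ _).symm
  erw [cxF_map_comp' Uf f a, cxF_map_comp' Uf g a]
  exact Preadditive.comp_add _ _ _ _ _ _⟩

theorem shortExact_cxF {S : ShortComplex (Cᵒᵖ ⥤ AddCommGrpCat.{w})} (hS : S.ShortExact) :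
    (S.map (cxF Uf)).ShortExact := by
  refine HomologicalComplex.shortExact_of_degreewise_shortExact _ fun n => ?_
  have hSa : ∀ a : Fin (n + 1) → ι, (S.map ((evaluation _ _).obj (op (pr Uf a).left))).ShortExact :=
    fun a => hS.map_of_exact _
  have hc : ∀ {P Q : Cᵒᵖ ⥤ AddCommGrpCat.{w}} (f : P ⟶ Q) (x : (EtCech.cechComplex Uf P).X n)
      (a : Fin (n + 1) → ι),
      comp' Uf Q a (((cxF Uf).map f).f n x) = f.app (op (pr Uf a).left) (comp' Uf P a x) :=
    fun f x a => ConcreteCategory.congr_hom (cxF_map_comp' Uf f a) x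
  refine { exact := (ShortComplex.ab_exact_iff _).2 fun x hx => ?_, mono_f := ?_, epi_g := ?_ }
  · have h : ∀ a, S.g.app (op (pr Uf a).left) (comp' Uf S.X₂ a x) = 0 := fun a =>
      (hc S.g x a).symm.trans ((congrArg (comp' Uf S.X₃ a) hx).trans (map_zero _))
    choose y hy using fun a => (ShortComplex.ab_exact_iff _).1 (hSa a).exact _ (h a)
    obtain ⟨z, hz⟩ := exists_pi' (G := fun a : Fin (n + 1) → ι => S.X₁.obj (op (pr Uf a).left)) y
    refine ⟨z, pi_ext' (G := fun a : Fin (n + 1) → ι => S.X₂.obj (op (pr Uf a).left)) fun a => ?_⟩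
    exact ((hc S.f z a).trans (congrArg (S.f.app _) (hz a))).trans (hy a)
  · refine (AddCommGrpCat.mono_iff_injective _).2 fun x y hxy => ?_
    refine pi_ext' (G := fun a : Fin (n + 1) → ι => S.X₁.obj (op (pr Uf a).left)) fun a => ?_
    haveI := (hSa a).mono_f
    refine (AddCommGrpCat.mono_iff_injective (S.f.app (op (pr Uf a).left))).1 this ?_
    exact (hc S.f x a).symm.trans ((congrArg (comp' Uf S.X₂ a) hxy).trans (hc S.f y a))
  · refine (AddCommGrpCat.epi_iff_surjective _).2 fun x => ?_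
    have h : ∀ a, ∃ y, S.g.app (op (pr Uf a).left) y = comp' Uf S.X₃ a x := fun a => by
      haveI := (hSa a).epi_g
      exact (AddCommGrpCat.epi_iff_surjective (S.g.app (op (pr Uf a).left))).1 this _
    choose y hy using h
    obtain ⟨z, hz⟩ := exists_pi' (G := fun a : Fin (n + 1) → ι => S.X₂.obj (op (pr Uf a).left)) y
    refine ⟨z, pi_ext' (G := fun a : Fin (n + 1) → ι => S.X₃.obj (op (pr Uf a).left)) fun a => ?_⟩
    exact ((hc S.g z a).trans (congrArg (S.g.app _) (hz a))).trans (hy a)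

/-- Čech cohomology as a δ-functor. -/
noncomputable def cechT : CohDeltaFunctor (Cᵒᵖ ⥤ AddCommGrpCat.{w}) AddCommGrpCat.{w} ℕ where
  F n := EtCech.cechHFunctor (C := C) Uf n
  additive n := inferInstanceAs (cxF (C := C) Uf ⋙ HomologicalComplex.homologyFunctor _ _ n).Additive
  δ S hS n₀ n₁ h := (shortExact_cxF Uf hS).δ n₀ n₁ h
  δ_natural {S S'} hS hS' φ n₀ n₁ h :=
    (HomologicalComplex.HomologySequence.δ_naturality ((cxF Uf).mapShortComplex.map φ)
      (shortExact_cxF Uf hS) (shortExact_cxF Uf hS') n₀ n₁ h).symm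
  exact₂ S hS n := (shortExact_cxF Uf hS).homology_exact₂ n
  comp_δ S hS n₀ n₁ h := (shortExact_cxF Uf hS).comp_δ n₀ n₁ h
  exact₃ S hS n₀ n₁ h := (shortExact_cxF Uf hS).homology_exact₃ n₀ n₁ h
  δ_comp S hS n₀ n₁ h := (shortExact_cxF Uf hS).δ_comp n₀ n₁ h
  exact₁ S hS n₀ n₁ h := (shortExact_cxF Uf hS).homology_exact₁ n₀ n₁ h

instance preservesFiniteLimits_cechH0 [(EtCech.cechHFunctor (C := C) Uf 0).Additive] :
    PreservesFiniteLimits (EtCech.cechHFunctor (C := C) Uf 0) := by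
  refine ((Functor.preservesFiniteLimits_tfae (EtCech.cechHFunctor (C := C) Uf 0)).out 0 3).1 fun S hS => ?_
  refine ⟨(shortExact_cxF Uf hS).homology_exact₂ 0, ?_⟩
  haveI := (shortExact_cxF Uf hS).mono_f
  haveI : Mono (((cxF Uf).map S.f).f 0) :=
    inferInstanceAs (Mono ((HomologicalComplex.eval _ _ 0).map (S.map (cxF Uf)).f))
  refine (HomologicalComplex.mono_homologyMap_iff_up_to_refinements ((cxF Uf).map S.f) 0 0 1
    (by simp) (by simp)).2 fun A x hx y hy => ⟨A, 𝟙 A, inferInstance, 0, ?_⟩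
  rw [Category.id_comp, zero_comp, ← cancel_mono (((cxF Uf).map S.f).f 0), hy, zero_comp,
    HomologicalComplex.shape _ _ _ (by simp), comp_zero]

variable [LocallySmall.{w} C]

theorem cechT_isEffaceable [EnoughInjectives (Cᵒᵖ ⥤ AddCommGrpCat.{w})] :
    (cechT (C := C) Uf).IsEffaceable := fun n P =>
  ⟨Injective.under P, Injective.ι P, inferInstance,
    (isZero_cechH_injective Uf (Injective.under P) n).eq_of_tgt _ _⟩

/-- Čech cohomology is the derived functor of its degree zero part. -/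
theorem nonempty_iso_rightDerived [(EtCech.cechHFunctor (C := C) Uf 0).Additive]
    [HasInjectiveResolutions (Cᵒᵖ ⥤ AddCommGrpCat.{w})] (p : ℕ) :
    Nonempty (EtCech.cechHFunctor (C := C) Uf p ≅ (EtCech.cechHFunctor (C := C) Uf 0).rightDerived p) := by
  haveI : EnoughInjectives (Cᵒᵖ ⥤ AddCommGrpCat.{w}) := ⟨fun X => by
    let I := injectiveResolution X
    haveI hm : Mono (I.ι.f 0) := mono_of_isLimit_fork I.isLimitKernelFork
    exact ⟨{ J := I.cocomplex.X 0, injective := I.injective 0, f := I.ι.f 0, mono := hm }⟩⟩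
  obtain ⟨Δ⟩ := RDerLES.nonempty_derivedLES (EtCech.cechHFunctor (C := C) Uf 0)
  let R := Δ.toCohDeltaFunctor
  have hR : R.IsEffaceable := fun n X => ⟨Injective.under X, Injective.ι X, inferInstance,
    (Functor.isZero_rightDerived_obj_injective_succ _ n (Injective.under X)).eq_of_tgt _ _⟩
  obtain ⟨τ, hτ, -⟩ := DeltaFun.isUniversal_of_isEffaceable (cechT_isEffaceable Uf) R
    (EtCech.cechHFunctor (C := C) Uf 0).rightDerivedZeroIsoSelf.inv
  have h0 : IsIso (τ.app 0) := by
    rw [hτ]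
    exact (EtCech.cechHFunctor (C := C) Uf 0).rightDerivedZeroIsoSelf.isIso_inv
  have hall := (DeltaFun.iso_mono_iff (cechT_isEffaceable Uf) τ p).2.2
    ⟨h0, fun i hi _ X => by
      obtain ⟨j, rfl⟩ := Nat.exists_eq_succ_of_ne_zero hi.ne'
      exact hR j X⟩
  exact ⟨@asIso _ _ _ _ (τ.app p) (hall.1 p le_rfl)⟩

end Groth.Agent.Cech24
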