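import Groth.Agent.Lib.Cech24.Derived
import Groth.Agent.Lib.EtColim.Sections24
import Groth.Agent.Lib.KFlat.Colim

/-!
# Čech cohomology commutes with filtered colimits of sheaves
-/

universe u

open CategoryTheory CategoryTheory.Limits AlgebraicGeometry Opposite

namespace Groth.Agent.Cech24

variable {X : Scheme.{u}}

theorem preservesColimitsOfShape_secFun' [CompactSpace X] [QuasiSeparatedSpace X] (W : X.Etale)
    [hW : CompactSpace W.left] [hW' : QuasiSeparatedSpace W.left]
    (J : Type (u + 1)) [SmallCategory J] [IsFiltered J] :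
    PreservesColimitsOfShape J (EtColim.secFun W) := by
  haveI : AlgebraicGeometry.Etale W.hom := W.prop
  haveI : CompactSpace ↥((𝟭 Scheme).obj W.left) := hW
  haveI : QuasiSeparatedSpace ↥((𝟭 Scheme).obj W.left) := hW'
  haveI := EtColim.preservesColimitsOfShape_HF ((𝟭 Scheme).obj W.left) 0 J
  haveI : (EtCoh.pull W.hom).IsLeftAdjoint := (EtCoh.pullPushAdj W.hom).isLeftAdjoint
  exact preservesColimitsOfShape_of_natIso
    ((Functor.isoWhiskerLeft (EtCoh.pull W.hom) (EtColim.coyonedaHFIso _)).symm ≪≫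
      (EtColim.coyonedaPullIso W.hom).symm ≪≫ EtColim.zExtSectIso W)

variable {U : X.Etale} [HasFiniteProducts (Over U)] {ι : Type (u + 1)} (Uf : ι → Over U)

lemma isPullback_pr {n : ℕ} (a : Fin (n + 2) → ι) :
    IsPullback (Pi.π (Uf ∘ a) 0).left (prFace Uf a 0).left (Uf (a 0)).hom
      (pr Uf (a ∘ Fin.succAbove 0)).hom := by
  have hw := (Over.w (Pi.π (Uf ∘ a) 0)).trans (Over.w (prFace Uf a 0)).symm
  refine ⟨⟨hw⟩, ⟨PullbackCone.IsLimit.mk _ (fun s => ?_) (fun s => ?_) (fun s => ?_) (fun s m h₁ h₂ => ?_)⟩⟩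
  · exact (Pi.lift (Fin.cons (Over.homMk s.fst rfl) fun k =>
      (Over.homMk s.snd s.condition.symm : Over.mk (s.fst ≫ (Uf (a 0)).hom) ⟶ pr Uf (a ∘ Fin.succAbove 0)) ≫
        Pi.π (Uf ∘ a ∘ Fin.succAbove 0) k) : Over.mk (s.fst ≫ (Uf (a 0)).hom) ⟶ pr Uf a).left
  · exact (Over.comp_left _ _ _ _ _).symm.trans (congrArg Over.Hom.left (Pi.lift_π _ 0))
  · refine pr_hom_ext Uf _ _ fun k => ?_
    refine (Category.assoc _ _ _).trans ?_
    refine (congrArg (_ ≫ ·) ((Over.comp_left _ _ _ _ _).symm.trans (congrArg Over.Hom.left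
      (Pi.lift_π (f := Uf ∘ a ∘ Fin.succAbove 0) (fun k => Pi.π (Uf ∘ a) (Fin.succAbove 0 k)) k)))).trans ?_
    exact (Over.comp_left _ _ _ _ _).symm.trans (congrArg Over.Hom.left (Pi.lift_π _ k.succ))
  · refine pr_hom_ext Uf _ _ fun k => ?_
    refine Fin.cases ?_ (fun k => ?_) k
    · refine h₁.trans (Eq.symm ?_)
      exact (Over.comp_left _ _ _ _ _).symm.trans (congrArg Over.Hom.left (Pi.lift_π _ 0))
    · refine Eq.symm (Eq.trans ((Over.comp_left _ _ _ _ _).symm.trans (congrArg Over.Hom.left (Pi.lift_π _ k.succ))) ?_)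
      refine Eq.symm ?_
      refine Eq.trans ?_ (congrArg (· ≫ (Pi.π (Uf ∘ a ∘ Fin.succAbove 0) k).left) h₂)
      refine Eq.trans ?_ (Category.assoc _ _ _).symm
      exact congrArg (m ≫ ·) ((Over.comp_left _ _ _ _ _).symm.trans (congrArg Over.Hom.left
        (Pi.lift_π (f := Uf ∘ a ∘ Fin.succAbove 0) (fun k => Pi.π (Uf ∘ a) (Fin.succAbove 0 k)) k))).symm

lemma qcqs_pr [QuasiSeparated U.hom] [∀ i, QuasiCompact (Uf i).left.hom]
    [∀ i, QuasiSeparated (Uf i).left.hom] {n : ℕ} (a : Fin (n + 1) → ι) :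
    QuasiCompact (pr Uf a).left.hom ∧ QuasiSeparated (pr Uf a).left.hom := by
  induction n with
  | zero =>
    have hi : IsIso (Pi.π (Uf ∘ a) 0) :=
      ⟨Pi.lift fun k => eqToHom (by rw [(Fin.ext (by omega) : k = 0)]), Pi.hom_ext _ _ fun k => by
        obtain rfl : k = 0 := Fin.ext (by omega)
        simp, Pi.lift_π _ _⟩
    let g := (Pi.π (Uf ∘ a) 0).left
    haveI : IsIso g := inferInstanceAs (IsIso ((Over.forget U).map (Pi.π (Uf ∘ a) 0)))
    haveI : IsIso g.left := inferInstanceAs (IsIso ((Scheme.Etale.forget X ⋙ Over.forget X).map g))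
    have h : g.left ≫ (Uf (a 0)).left.hom = (pr Uf a).left.hom := MorphismProperty.Over.w g
    rw [← h]
    exact ⟨inferInstance, inferInstance⟩
  | succ n ih =>
    obtain ⟨h1, h2⟩ := ih (a ∘ Fin.succAbove 0)
    have hp := (isPullback_pr Uf a).map (Scheme.Etale.forget X ⋙ Over.forget X)
    let r := (pr Uf (a ∘ Fin.succAbove 0)).hom
    let p := (Pi.π (Uf ∘ a) 0).left
    have hr : r.left ≫ U.hom = (pr Uf (a ∘ Fin.succAbove 0)).left.hom := MorphismProperty.Over.w r
    haveI hrq : QuasiCompact r.left := by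
      have : QuasiCompact (r.left ≫ U.hom) := hr ▸ h1
      exact QuasiCompact.of_comp r.left U.hom
    haveI hrs : QuasiSeparated r.left := by
      have : QuasiSeparated (r.left ≫ U.hom) := hr ▸ h2
      exact QuasiSeparated.of_comp r.left U.hom
    haveI : QuasiCompact p.left := MorphismProperty.of_isPullback (P := @QuasiCompact) hp.flip hrq
    haveI : QuasiSeparated p.left := MorphismProperty.of_isPullback (P := @QuasiSeparated) hp.flip hrs
    have h : p.left ≫ (Uf (a 0)).left.hom = (pr Uf a).left.hom := MorphismProperty.Over.w p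
    rw [← h]
    exact ⟨inferInstance, inferInstance⟩

theorem preservesColimitsOfShape_cechH [CompactSpace X] [QuasiSeparatedSpace X]
    [QuasiSeparated U.hom] [Finite ι] [∀ i, QuasiCompact (Uf i).left.hom]
    [∀ i, QuasiSeparated (Uf i).left.hom] (q : ℕ) (I : Type (u + 1)) [SmallCategory I] [IsFiltered I] :
    PreservesColimitsOfShape I
      (sheafToPresheaf X.smallEtaleTopology AddCommGrpCat.{u + 1} ⋙ EtCech.cechHFunctor Uf q) := by
  let Φ := sheafToPresheaf X.smallEtaleTopology AddCommGrpCat.{u + 1} ⋙ cxF (C := X.Etale) Uf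
  haveI : PreservesColimitsOfShape I Φ := by
    refine HomologicalComplex.preservesColimitsOfShape_of_eval Φ fun n => ?_
    let G : Discrete (Fin (n + 1) → ι) ⥤ EtCoh.Ab X ⥤ AddCommGrpCat.{u + 1} :=
      Discrete.functor fun a => EtColim.secFun (pr Uf a).left
    haveI : ∀ k, PreservesColimitsOfShape I (G.flip ⋙ (evaluation _ AddCommGrpCat.{u + 1}).obj k) := by
      rintro ⟨a⟩
      obtain ⟨h1, h2⟩ := qcqs_pr Uf a
      let m : (pr Uf a).left.left ⟶ X := (pr Uf a).left.hom
      haveI : QuasiCompact m := h1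
      haveI : QuasiSeparated m := h2
      haveI : CompactSpace (pr Uf a).left.left := QuasiCompact.compactSpace_of_compactSpace m
      haveI : QuasiSeparatedSpace (pr Uf a).left.left := quasiSeparatedSpace_of_quasiSeparated m
      exact preservesColimitsOfShape_secFun' (pr Uf a).left I
    haveI : PreservesColimitsOfShape I G.flip := preservesColimitsOfShape_of_evaluation _ I inferInstance
    haveI : HasBiproductsOfShape (Fin (n + 1) → ι) AddCommGrpCat.{u + 1} := inferInstance
    haveI : PreservesColimitsOfShape I (G.flip ⋙ colim) := inferInstance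
    exact preservesColimitsOfShape_of_natIso
      (Functor.isoWhiskerLeft G.flip HasBiproductsOfShape.colimIsoLim ≪≫
        NatIso.ofComponents (fun F => (Pi.isoLimit (G.flip.obj F)).symm)
          (fun {F F'} φ => limit.hom_ext fun ⟨a⟩ => by
            refine (Category.assoc _ _ _).trans ?_
            refine (congrArg (_ ≫ ·) (Pi.isoLimit_inv_π (G.flip.obj _) a)).trans ?_
            refine (limMap_π _ _).trans ?_
            refine Eq.trans ?_ (Category.assoc _ _ _).symm
            refine Eq.trans ?_ (congrArg (_ ≫ ·) (cxF_map_comp' Uf φ.hom a).symm)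
            refine Eq.trans ?_ (Category.assoc _ _ _)
            exact (congrArg (· ≫ _) (Pi.isoLimit_inv_π (G.flip.obj _) a)).symm))
  exact inferInstanceAs (PreservesColimitsOfShape I (Φ ⋙ HomologicalComplex.homologyFunctor _ _ q))

end Groth.Agent.Cech24
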