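import Groth.Prelude.Def_EtCech
import Mathlib.Algebra.Category.Grp.Adjunctions
import Mathlib.Algebra.Category.Grp.Abelian
import Mathlib.Algebra.Homology.ShortComplex.Ab
import Mathlib.CategoryTheory.Preadditive.Injective.Basic
import Mathlib.GroupTheory.FreeAbelianGroup

/-!
# Čech cohomology of injective presheaves
-/

universe w v u

open CategoryTheory CategoryTheory.Limits Opposite AlgebraicTopology Simplicial

namespace Groth.Agent.Cech24

section Combinatorics

variable {E B : Type w} (π : E → B)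

/-- Tuples in one fibre. -/
def Tup (n : ℕ) : Type w := {σ : Fin (n + 1) → E // ∀ k, π (σ k) = π (σ 0)}

variable {π}

/-- A face of a tuple. -/
def face {n : ℕ} (i : Fin (n + 2)) (σ : Tup π (n + 1)) : Tup π n :=
  ⟨σ.1 ∘ i.succAbove, fun k => (σ.2 _).trans (σ.2 _).symm⟩

variable (π)

/-- The boundary of chains of tuples. -/
noncomputable def bdry (n : ℕ) : FreeAbelianGroup (Tup π (n + 1)) →+ FreeAbelianGroup (Tup π n) :=
  FreeAbelianGroup.lift fun σ => ∑ i : Fin (n + 2), (-1 : ℤ) ^ (i : ℕ) • FreeAbelianGroup.of (face i σ)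

lemma bdry_of {n : ℕ} (σ : Tup π (n + 1)) :
    bdry π n (FreeAbelianGroup.of σ) = ∑ i : Fin (n + 2), (-1 : ℤ) ^ (i : ℕ) • FreeAbelianGroup.of (face i σ) :=
  FreeAbelianGroup.lift_apply_of _ _

open Classical in
/-- A chosen element in a fibre. -/
noncomputable def sec (b : B) (e : E) : E := if h : ∃ e', π e' = b then h.choose else e

lemma sec_spec {b : B} (e : E) (he : π e = b) : π (sec π b e) = b := by
  classical
  rw [sec, dif_pos ⟨e, he⟩]
  exact (⟨e, he⟩ : ∃ e', π e' = b).choose_spec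

lemma sec_congr {b : B} (e e' : E) (he : π e = b) : sec π b e = sec π b e' := by
  classical
  rw [sec, sec, dif_pos ⟨e, he⟩, dif_pos ⟨e, he⟩]

/-- Adding the chosen element in front. -/
noncomputable def cons' {n : ℕ} (σ : Tup π n) : Tup π (n + 1) :=
  ⟨Fin.cons (sec π (π (σ.1 0)) (σ.1 0)) σ.1, fun k => by
    refine Fin.cases ?_ (fun k => ?_) k
    · rfl
    · rw [Fin.cons_succ, Fin.cons_zero, sec_spec π _ rfl, σ.2 k]⟩

lemma face_zero_cons {n : ℕ} (σ : Tup π n) : face 0 (cons' π σ) = σ :=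
  Subtype.ext (funext fun k => by simp [face, cons'])

lemma face_succ_cons {n : ℕ} (σ : Tup π (n + 1)) (i : Fin (n + 2)) :
    face i.succ (cons' π σ) = cons' π (face i σ) := by
  refine Subtype.ext (funext fun k => ?_)
  refine Fin.cases ?_ (fun k => ?_) k
  · change (Fin.cons (sec π (π (σ.1 0)) (σ.1 0)) σ.1 : Fin _ → E) (i.succ.succAbove 0) = _
    rw [Fin.succ_succAbove_zero, Fin.cons_zero]
    change _ = sec π (π (σ.1 (i.succAbove 0))) (σ.1 (i.succAbove 0))
    rw [σ.2 (i.succAbove 0)]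
    exact sec_congr π _ _ rfl
  · change (Fin.cons (sec π (π (σ.1 0)) (σ.1 0)) σ.1 : Fin _ → E) (i.succ.succAbove k.succ) = _
    rw [Fin.succ_succAbove_succ, Fin.cons_succ]
    simp [cons', face]

/-- The chains of tuples are exact in positive degrees. -/
theorem exists_of_bdry_eq_zero {n : ℕ} (z : FreeAbelianGroup (Tup π (n + 1))) (hz : bdry π n z = 0) :
    ∃ w, bdry π (n + 1) w = z := by
  let h : ∀ m, FreeAbelianGroup (Tup π m) →+ FreeAbelianGroup (Tup π (m + 1)) := fun m =>
    FreeAbelianGroup.map (cons' π)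
  refine ⟨h (n + 1) z, ?_⟩
  have key : (bdry π (n + 1)).comp (h (n + 1)) + (h n).comp (bdry π n) = AddMonoidHom.id _ := by
    refine FreeAbelianGroup.lift_ext _ _ fun σ => ?_
    simp only [h, AddMonoidHom.add_apply, AddMonoidHom.comp_apply, AddMonoidHom.id_apply, bdry_of,
      FreeAbelianGroup.map_of_apply, map_sum, map_zsmul]
    rw [Fin.sum_univ_succ, face_zero_cons, add_assoc, ← Finset.sum_add_distrib, Finset.sum_eq_zero, add_zero]
    · simp
    · intro i _
      rw [face_succ_cons, Fin.val_succ, pow_succ, mul_neg_one, neg_zsmul, neg_add_cancel]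
  have := DFunLike.congr_fun key z
  simp only [AddMonoidHom.add_apply, AddMonoidHom.comp_apply, AddMonoidHom.id_apply, hz, map_zero, add_zero] at this
  exact this

end Combinatorics

section Presheaf

variable {C : Type u} [Category.{v} C] [LocallySmall.{w} C] {U : C} {ι : Type w} (Uf : ι → Over U)

/-- Maps into the members of the family. -/
abbrev El (T : Cᵒᵖ) : Type w := Σ i : ι, Shrink.{w} (T.unop ⟶ (Uf i).left)

/-- The map to the base. -/
noncomputable def toBase (T : Cᵒᵖ) (e : El Uf T) : Shrink.{w} (T.unop ⟶ U) :=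
  equivShrink _ ((equivShrink _).symm e.2 ≫ (Uf e.1).hom)

/-- Functoriality. -/
noncomputable def elMap {T T' : Cᵒᵖ} (g : T ⟶ T') (e : El Uf T) : El Uf T' :=
  ⟨e.1, equivShrink _ (g.unop ≫ (equivShrink _).symm e.2)⟩

lemma toBase_elMap {T T' : Cᵒᵖ} (g : T ⟶ T') (e : El Uf T) :
    toBase Uf T' (elMap Uf g e) = equivShrink _ (g.unop ≫ (equivShrink _).symm (toBase Uf T e)) := by
  simp only [toBase, elMap, Equiv.symm_apply_apply]
  exact congrArg _ ((congrArg (· ≫ _) (Equiv.symm_apply_apply _ _)).trans (Category.assoc _ _ _))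

/-- The presheaf of tuples. -/
noncomputable def tupPsh (n : ℕ) : Cᵒᵖ ⥤ Type w where
  obj T := Tup (toBase Uf T) n
  map g := ↾fun σ => ⟨elMap Uf g ∘ σ.1, fun k => by
    simp only [Function.comp_apply, toBase_elMap, σ.2 k]⟩
  map_id T := by
    refine ConcreteCategory.hom_ext _ _ fun σ => Subtype.ext (funext fun k => ?_)
    refine Sigma.ext rfl (heq_of_eq ?_)
    simp [elMap]
  map_comp g g' := by
    refine ConcreteCategory.hom_ext _ _ fun σ => Subtype.ext (funext fun k => ?_)
    refine Sigma.ext rfl (heq_of_eq ?_)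
    simp [elMap]

/-- The free presheaf on tuples. -/
noncomputable def chains (n : ℕ) : Cᵒᵖ ⥤ AddCommGrpCat.{w} := tupPsh Uf n ⋙ AddCommGrpCat.free

/-- The boundary. -/
noncomputable def dChains (n : ℕ) : chains Uf (n + 1) ⟶ chains Uf n where
  app T := AddCommGrpCat.ofHom (bdry (toBase Uf T) n)
  naturality T T' g := by
    refine AddCommGrpCat.hom_ext ?_
    refine FreeAbelianGroup.lift_ext _ _ fun σ => ?_
    change bdry (toBase Uf T') n (FreeAbelianGroup.map ((tupPsh Uf (n + 1)).map g) (FreeAbelianGroup.of σ)) =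
      FreeAbelianGroup.map ((tupPsh Uf n).map g) (bdry (toBase Uf T) n (FreeAbelianGroup.of σ))
    rw [FreeAbelianGroup.map_of_apply]
    refine (bdry_of (toBase Uf T') ((tupPsh Uf (n + 1)).map g σ)).trans
      (Eq.trans ?_ (congrArg _ (bdry_of (toBase Uf T) σ)).symm)
    refine Eq.trans ?_ (map_sum _ _ _).symm
    refine Finset.sum_congr rfl fun i _ => ?_
    refine Eq.trans ?_ (map_zsmul _ _ _).symm
    exact congrArg _ (FreeAbelianGroup.map_of_apply _).symm

variable [HasFiniteProducts (Over U)]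

/-- The fibre product attached to a tuple of indices. -/
noncomputable abbrev pr {n : ℕ} (a : Fin (n + 1) → ι) : Over U := ∏ᶜ (Uf ∘ a)

/-- The map into the fibre product given by a tuple. -/
noncomputable def tupLift {n : ℕ} {T : Cᵒᵖ} (σ : Tup (toBase Uf T) n) :
    T.unop ⟶ (pr Uf fun k => (σ.1 k).1).left :=
  (Pi.lift (f := Uf ∘ fun k => (σ.1 k).1) fun k =>
    (Over.homMk ((equivShrink _).symm (σ.1 k).2) ((equivShrink _).injective (σ.2 k)) :
      Over.mk ((equivShrink _).symm (σ.1 0).2 ≫ (Uf (σ.1 0).1).hom) ⟶ Uf (σ.1 k).1)).left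

lemma tupLift_π {n : ℕ} {T : Cᵒᵖ} (σ : Tup (toBase Uf T) n) (k : Fin (n + 1)) :
    tupLift Uf σ ≫ (Pi.π (Uf ∘ fun k => (σ.1 k).1) k).left = (equivShrink _).symm (σ.1 k).2 :=
  (Over.comp_left _ _ _ _ _).symm.trans (congrArg Over.Hom.left (Pi.lift_π (f := Uf ∘ fun k => (σ.1 k).1) _ k))

omit [LocallySmall.{w} C] in
lemma pr_hom_ext {n : ℕ} {a : Fin (n + 1) → ι} {T : C} (x y : T ⟶ (pr Uf a).left)
    (h : ∀ k, x ≫ (Pi.π (Uf ∘ a) k).left = y ≫ (Pi.π (Uf ∘ a) k).left) : x = y := by
  have hb : x ≫ (pr Uf a).hom = y ≫ (pr Uf a).hom := by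
    rw [← Over.w (Pi.π (Uf ∘ a) 0), ← Category.assoc, ← Category.assoc, h]
  have e : (Over.homMk x rfl : Over.mk (x ≫ (pr Uf a).hom) ⟶ pr Uf a) = Over.homMk y hb.symm :=
    Pi.hom_ext _ _ fun k => Over.OverMorphism.ext (h k)
  exact congrArg (fun t => t.left) e

variable (I : Cᵒᵖ ⥤ AddCommGrpCat.{w})

/-- The face maps of the fibre products. -/
noncomputable abbrev prFace {n : ℕ} (a : Fin (n + 2) → ι) (i : Fin (n + 2)) :
    pr Uf a ⟶ pr Uf (a ∘ i.succAbove) :=
  Pi.lift fun k => Pi.π (Uf ∘ a) (i.succAbove k)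

omit [LocallySmall.{w} C] in
lemma eval_congr {n : ℕ} (c : ∀ a : Fin (n + 1) → ι, I.obj (op (pr Uf a).left)) {T : C}
    {a b : Fin (n + 1) → ι} (h : a = b) (x : T ⟶ (pr Uf a).left) (y : T ⟶ (pr Uf b).left)
    (hxy : ∀ k, x ≫ (Pi.π (Uf ∘ a) k).left = y ≫ (Pi.π (Uf ∘ b) k).left ≫ eqToHom (by rw [h])) :
    I.map x.op (c a) = I.map y.op (c b) := by
  subst h
  rw [pr_hom_ext Uf x y fun k => by simpa using hxy k]

/-- The morphism out of chains given by a cochain. -/
noncomputable def ofCochain {n : ℕ} (c : ∀ a : Fin (n + 1) → ι, I.obj (op (pr Uf a).left)) :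
    chains Uf n ⟶ I where
  app T := AddCommGrpCat.ofHom (FreeAbelianGroup.lift fun σ => I.map (tupLift Uf σ).op (c _))
  naturality T T' g := by
    refine AddCommGrpCat.hom_ext ?_
    refine FreeAbelianGroup.lift_ext _ _ fun σ => ?_
    change FreeAbelianGroup.lift _ (FreeAbelianGroup.map ((tupPsh Uf n).map g) (FreeAbelianGroup.of σ)) =
      I.map g (FreeAbelianGroup.lift _ (FreeAbelianGroup.of σ))
    rw [FreeAbelianGroup.map_of_apply, FreeAbelianGroup.lift_apply_of, FreeAbelianGroup.lift_apply_of]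
    conv_rhs => rw [← Quiver.Hom.op_unop g, ← Functor.map_comp_apply, ← op_comp]
    refine congrArg (fun t : T'.unop ⟶ _ => I.map t.op (c fun k => (σ.1 k).1)) (pr_hom_ext Uf _ _ fun k => ?_)
    refine (tupLift_π Uf (T := T') ((tupPsh Uf n).map g σ) k).trans (Eq.trans ?_ (Category.assoc _ _ _).symm)
    refine Eq.trans ?_ (congrArg (g.unop ≫ ·) (tupLift_π Uf σ k).symm)
    exact Equiv.symm_apply_apply _ _

/-- The tautological tuple of a fibre product. -/
noncomputable def tautTup {n : ℕ} (a : Fin (n + 1) → ι) : Tup (toBase Uf (op (pr Uf a).left)) n :=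
  ⟨fun k => ⟨a k, equivShrink _ (Pi.π (Uf ∘ a) k).left⟩, fun k => by
    simp only [toBase, Equiv.symm_apply_apply]
    exact congrArg _ ((Over.w (Pi.π (Uf ∘ a) k)).trans (Over.w (Pi.π (Uf ∘ a) 0)).symm)⟩

/-- The Čech differential on tuples of sections. -/
noncomputable def dCochain {n : ℕ} (c : ∀ a : Fin (n + 1) → ι, I.obj (op (pr Uf a).left))
    (a : Fin (n + 2) → ι) : I.obj (op (pr Uf a).left) :=
  ∑ i : Fin (n + 2), (-1 : ℤ) ^ (i : ℕ) • I.map (prFace Uf a i).left.op (c (a ∘ i.succAbove))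

lemma bdry_ofCochain {n : ℕ} (c : ∀ a : Fin (n + 1) → ι, I.obj (op (pr Uf a).left)) :
    dChains Uf n ≫ ofCochain Uf I c = ofCochain Uf I (dCochain Uf I c) := by
  refine NatTrans.ext (funext fun T => AddCommGrpCat.hom_ext (FreeAbelianGroup.lift_ext _ _ fun σ => ?_))
  change FreeAbelianGroup.lift _ (bdry (toBase Uf T) n (FreeAbelianGroup.of σ)) =
    FreeAbelianGroup.lift (fun σ => I.map (tupLift Uf σ).op (dCochain Uf I c _)) (FreeAbelianGroup.of σ)
  rw [bdry_of, map_sum, FreeAbelianGroup.lift_apply_of, dCochain, map_sum]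
  refine Finset.sum_congr rfl fun i _ => ?_
  rw [map_zsmul, map_zsmul, FreeAbelianGroup.lift_apply_of]
  refine congrArg _ ?_
  rw [← Functor.map_comp_apply, ← op_comp]
  refine congrArg (fun t : T.unop ⟶ _ => I.map t.op (c _)) (pr_hom_ext Uf _ _ fun k => ?_)
  refine (tupLift_π Uf (face i σ) k).trans (Eq.symm ?_)
  refine (Category.assoc _ _ _).trans ?_
  refine (congrArg (tupLift Uf σ ≫ ·) ((Over.comp_left _ _ _ _ _).symm.trans
    (congrArg Over.Hom.left (Pi.lift_π (f := Uf ∘ fun k => (σ.1 (i.succAbove k)).1) _ k)))).trans ?_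
  exact tupLift_π Uf σ (i.succAbove k)

lemma ofCochain_taut {n : ℕ} (c : ∀ a : Fin (n + 1) → ι, I.obj (op (pr Uf a).left)) (a : Fin (n + 1) → ι) :
    (ofCochain Uf I c).app (op (pr Uf a).left) (FreeAbelianGroup.of (tautTup Uf a)) = c a := by
  refine (FreeAbelianGroup.lift_apply_of _ _).trans ?_
  have h : tupLift Uf (tautTup Uf a) = 𝟙 (pr Uf a).left := pr_hom_ext Uf _ _ fun k =>
    (tupLift_π Uf (tautTup Uf a) k).trans
      ((Equiv.symm_apply_apply _ _).trans (Category.id_comp _).symm)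
  refine (congrArg (fun t : (pr Uf a).left ⟶ _ => I.map t.op (c a)) h).trans ?_
  rw [op_id, CategoryTheory.Functor.map_id]
  rfl

lemma ofCochain_surjective {n : ℕ} (φ : chains Uf n ⟶ I) :
    ∃ c, ofCochain Uf I c = φ := by
  refine ⟨fun a => φ.app (op (pr Uf a).left) (FreeAbelianGroup.of (tautTup Uf a)), ?_⟩
  refine NatTrans.ext (funext fun T => AddCommGrpCat.hom_ext (FreeAbelianGroup.lift_ext _ _ fun σ => ?_))
  change FreeAbelianGroup.lift _ (FreeAbelianGroup.of σ) = φ.app T (FreeAbelianGroup.of σ)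
  rw [FreeAbelianGroup.lift_apply_of]
  refine ((NatTrans.naturality_apply φ (tupLift Uf σ).op
    (FreeAbelianGroup.of (tautTup Uf fun k => (σ.1 k).1))).symm.trans ?_)
  refine congrArg (φ.app T) ?_
  refine (FreeAbelianGroup.map_of_apply _).trans (congrArg _ (Subtype.ext (funext fun k => ?_)))
  refine Sigma.ext rfl (heq_of_eq ?_)
  refine (congrArg (equivShrink _) ?_).trans ((equivShrink _).apply_symm_apply (σ.1 k).2)
  exact (congrArg (tupLift Uf σ ≫ ·) (Equiv.symm_apply_apply _ _)).trans (tupLift_π Uf σ k)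

/-- Cocycles of an injective presheaf are coboundaries. -/
theorem exists_cochain_of_cocycle [Injective I] {n : ℕ}
    (c : ∀ a : Fin (n + 2) → ι, I.obj (op (pr Uf a).left)) (hc : dCochain Uf I c = 0) :
    ∃ b, dCochain Uf I b = c := by
  have hk : kernel.ι (dChains Uf n) ≫ ofCochain Uf I c = 0 := by
    refine NatTrans.ext (funext fun T => ConcreteCategory.hom_ext _ _ fun z => ?_)
    have hz : bdry (toBase Uf T) n ((kernel.ι (dChains Uf n)).app T z) = 0 :=
      (ConcreteCategory.congr_hom (congrArg (fun t => NatTrans.app t T)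
        (kernel.condition (dChains Uf n))) z).trans rfl
    obtain ⟨w, hw⟩ := exists_of_bdry_eq_zero (toBase Uf T) _ hz
    change (ofCochain Uf I c).app T ((kernel.ι (dChains Uf n)).app T z) = _
    rw [← hw]
    refine (ConcreteCategory.congr_hom (congrArg (fun t => NatTrans.app t T)
      (bdry_ofCochain Uf I c)) w).trans ?_
    have h0 : (ofCochain Uf I (dCochain Uf I c)).app T = 0 := by
      refine AddCommGrpCat.hom_ext (FreeAbelianGroup.lift_ext _ _ fun σ => ?_)
      refine (FreeAbelianGroup.lift_apply_of _ _).trans ?_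
      rw [hc]
      exact map_zero _
    rw [h0]
    rfl
  obtain ⟨b, hb⟩ := ofCochain_surjective Uf I
    (Injective.factorThru (cokernel.desc (kernel.ι (dChains Uf n)) (ofCochain Uf I c) hk)
      (Abelian.factorThruCoimage (dChains Uf n)))
  refine ⟨b, funext fun a => ?_⟩
  have e : dChains Uf n ≫ ofCochain Uf I b = ofCochain Uf I c := by
    rw [hb]
    exact (congrArg (· ≫ _) (Abelian.coimage.fac (dChains Uf n)).symm).trans ((Category.assoc _ _ _).trans
      ((congrArg (_ ≫ ·) (Injective.comp_factorThru _ _)).trans (cokernel.π_desc _ _ hk)))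
  rw [← ofCochain_taut Uf I (dCochain Uf I b) a, ← bdry_ofCochain, e, ofCochain_taut]

end Presheaf

section Complex

variable {C : Type u} [Category.{v} C] {U : C} [HasFiniteProducts (Over U)] {ι : Type w}
  (Uf : ι → Over U) (I : Cᵒᵖ ⥤ AddCommGrpCat.{w})

lemma pi_ext' {T : Type w} {G : T → AddCommGrpCat.{w}} {x y : (∏ᶜ G : AddCommGrpCat.{w})}
    (h : ∀ t, Pi.π G t x = Pi.π G t y) : x = y :=
  Concrete.limit_ext _ _ _ fun ⟨t⟩ => h t

lemma exists_pi' {T : Type w} {G : T → AddCommGrpCat.{w}} (f : ∀ t, G t) :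
    ∃ x : (∏ᶜ G : AddCommGrpCat.{w}), ∀ t, Pi.π G t x = f t := by
  let g : ∀ t, AddCommGrpCat.of (ULift.{w} ℤ) ⟶ G t := fun t =>
    AddCommGrpCat.ofHom ((zmultiplesHom (G t) (f t)).comp (AddEquiv.ulift.{0, w}).toAddMonoidHom)
  refine ⟨Pi.lift g (ULift.up 1), fun t => ?_⟩
  rw [← ConcreteCategory.comp_apply, Pi.lift_π]
  exact one_zsmul (f t)

/-- A component of a cochain. -/
noncomputable abbrev comp' {n : ℕ} (a : Fin (n + 1) → ι) :
    (EtCech.cechComplex Uf I).X n ⟶ I.obj (op (pr Uf a).left) :=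
  Pi.π (fun a : Fin (n + 1) → ι => I.obj (op (pr Uf a).left)) a

/-- The coface maps. -/
noncomputable abbrev coface (n : ℕ) (i : Fin (n + 2)) :
    (EtCech.cechComplex Uf I).X n ⟶ (EtCech.cechComplex Uf I).X (n + 1) :=
  CosimplicialObject.δ ((FormalCoproduct.cosimplicialObjectFunctor (FormalCoproduct.mk _ Uf).cech).obj
    ((Over.forget U).op ⋙ I)) i

lemma coface_comp {n : ℕ} (i : Fin (n + 2)) (a : Fin (n + 2) → ι) :
    coface Uf I n i ≫ comp' Uf I a = comp' Uf I (a ∘ i.succAbove) ≫ I.map (prFace Uf a i).left.op :=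
  Pi.lift_π _ a

lemma sum_apply' {A B : AddCommGrpCat.{w}} {κ : Type*} (s : Finset κ) (f : κ → (A ⟶ B)) (x : A) :
    (∑ i ∈ s, f i) x = ∑ i ∈ s, f i x := by
  classical
  induction s using Finset.induction_on with
  | empty => rfl
  | @insert a s h ih => rw [Finset.sum_insert h, Finset.sum_insert h, ← ih]; rfl

lemma comp_d {n : ℕ} (x : (EtCech.cechComplex Uf I).X n) (a : Fin (n + 2) → ι) :
    comp' Uf I a ((EtCech.cechComplex Uf I).d n (n + 1) x) =
      dCochain Uf I (fun b => comp' Uf I b x) a := by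
  have hd : (EtCech.cechComplex Uf I).d n (n + 1) = ∑ i : Fin (n + 2), (-1 : ℤ) ^ (i : ℕ) • coface Uf I n i :=
    CochainComplex.of_d (fun m => (EtCech.cechComplex Uf I).X m) (AlternatingCofaceMapComplex.objD
      ((FormalCoproduct.cosimplicialObjectFunctor (FormalCoproduct.mk _ Uf).cech).obj
        ((Over.forget U).op ⋙ I))) n
  rw [hd, sum_apply', map_sum, dCochain]
  refine Finset.sum_congr rfl fun i _ => ?_
  change comp' Uf I a ((-1 : ℤ) ^ (i : ℕ) • coface Uf I n i x) = _
  rw [map_zsmul]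
  exact congrArg _ (ConcreteCategory.congr_hom (coface_comp Uf I i a) x)

/-- Čech cohomology of an injective presheaf vanishes in positive degrees. -/
theorem isZero_cechH_injective [LocallySmall.{w} C] [Injective I] (p : ℕ) :
    IsZero (EtCech.cechH Uf I (p + 1)) := by
  refine ((EtCech.cechComplex Uf I).exactAt_iff_isZero_homology (p + 1)).1 ?_
  rw [(EtCech.cechComplex Uf I).exactAt_iff' p (p + 1) (p + 2) (by simp) (by simp), ShortComplex.ab_exact_iff]
  intro x hx
  obtain ⟨b, hb⟩ := exists_cochain_of_cocycle Uf I (fun a => comp' Uf I a x) (funext fun a =>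
    (comp_d Uf I x a).symm.trans ((congrArg (comp' Uf I a) hx).trans (map_zero _)))
  obtain ⟨y, hy⟩ := exists_pi' (G := fun a : Fin (p + 1) → ι => I.obj (op (pr Uf a).left)) b
  refine ⟨y, pi_ext' (G := fun a : Fin (p + 2) → ι => I.obj (op (pr Uf a).left)) fun a => ?_⟩
  refine (comp_d Uf I y a).trans ?_
  rw [show (fun a => comp' Uf I a y) = b from funext hy, hb]
  rfl

end Complex

end Groth.Agent.Cech24
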