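import Groth.Agent.Lib.Cech24.Cocycle
import Groth.Agent.Lib.EtStalk.Topological
import Groth.Prelude.Def_EtBase
import Mathlib

/-!
# Čech acyclic sheaves: direct images and quotients
-/

universe u

open CategoryTheory CategoryTheory.Limits AlgebraicGeometry Opposite

namespace Groth.Agent.Cech24

variable {X Y : Scheme.{u}}

/-- Čech cohomology of the sheaf vanishes for every covering family. -/
def Acyclic [∀ U : X.Etale, HasFiniteProducts (Over U)] (F : EtCoh.Ab X) : Prop :=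
  ∀ (U : X.Etale) (ι : Type (u + 1)) (Uf : ι → Over U),
      (∀ x : ↥(U.left), ∃ (i : ι) (y : ↥((Uf i).left.left)), (Uf i).hom.left.base y = x) →
      ∀ p : ℕ, 0 < p → IsZero (EtCech.cechH Uf F.obj p)

theorem isZero_push (f : X ⟶ Y)
    [∀ U : X.Etale, HasFiniteProducts (Over U)] [∀ V : Y.Etale, HasFiniteProducts (Over V)]
    (F : EtCoh.Ab X) (hF : Acyclic F) (V : Y.Etale) (ι : Type (u + 1)) (Vf : ι → Over V)
    (hV : ∀ x : ↥(V.left), ∃ (i : ι) (y : ↥((Vf i).left.left)), (Vf i).hom.left.base y = x)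
    (p : ℕ) (hp : 0 < p) :
    IsZero (EtCech.cechH Vf ((EtCoh.push f).obj F).obj p) := by
  obtain ⟨n, rfl⟩ := Nat.exists_eq_succ_of_ne_zero hp.ne'
  refine isZero_comp F.obj (EtCoh.bc f) Vf (hF _ ι _ (fun z => ?_) (n + 1) (Nat.succ_pos n))
  obtain ⟨i, y, hy⟩ := hV (Groth.Agent.EtStalk.bcFst f V z)
  obtain ⟨w, hw, -⟩ := Scheme.exists_preimage_of_isPullback (EtCoh.isPullback_bc_map f (Vf i).hom) z y hy.symm
  exact ⟨i, w, hw⟩

end Groth.Agent.Cech24
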