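import Groth.Agent.Lib.Cech24.Push

/-!
# Quotients of Čech acyclic sheaves by Čech acyclic sheaves
-/

universe u

open CategoryTheory CategoryTheory.Limits AlgebraicGeometry Opposite

namespace Groth.Agent.Cech24

variable {X : Scheme.{u}} [∀ U : X.Etale, HasFiniteProducts (Over U)]

lemma exact_mono_presheaf (S : ShortComplex (EtCoh.Ab X)) (hS : S.ShortExact) :
    (S.map (sheafToPresheaf X.smallEtaleTopology AddCommGrpCat.{u + 1})).Exact ∧
      Mono ((sheafToPresheaf X.smallEtaleTopology AddCommGrpCat.{u + 1}).map S.f) :=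
  by
    have h := (Functor.preservesFiniteLimits_tfae (sheafToPresheaf X.smallEtaleTopology AddCommGrpCat.{u + 1})).out 3 0
    exact h.1 inferInstance S hS

lemma exists_section_lift (S : ShortComplex (EtCoh.Ab X)) (hS : S.ShortExact) (h1 : Acyclic S.X₁)
    (W : X.Etale) (t : S.X₃.obj.obj (op W)) : ∃ s, S.g.hom.app (op W) s = t := by
  obtain ⟨hex, hmono⟩ := exact_mono_presheaf S hS
  have hexA : ∀ (V : X.Etale) (x : S.X₂.obj.obj (op V)), S.g.hom.app (op V) x = 0 →
      ∃ y, S.f.hom.app (op V) y = x := fun V x hx =>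
    (ShortComplex.ab_exact_iff _).1 (hex.map ((evaluation _ _).obj (op V))) x hx
  have hinjA : ∀ (V : X.Etale), Function.Injective (S.f.hom.app (op V)) := fun V =>
    (AddCommGrpCat.mono_iff_injective _).1 ((NatTrans.mono_iff_mono_app _).1 hmono (op V))
  haveI := hS.epi_g
  haveI : Sheaf.IsLocallySurjective S.g := (Sheaf.isLocallySurjective_iff_epi' _ S.g).2 inferInstance
  let R := Presheaf.imageSieve S.g.hom (U := W) t
  have hR : R ∈ X.smallEtaleTopology W := Presheaf.imageSieve_mem X.smallEtaleTopology S.g.hom (U := op W) t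
  let ι : Type (u + 1) := Σ V : X.Etale, {g : V ⟶ W // R g}
  let Uf : ι → Over W := fun i => Over.mk i.2.1
  let s : ∀ i : ι, S.X₂.obj.obj (op i.1) := fun i => Presheaf.localPreimage S.g.hom (U := op W) t i.2.1 i.2.2
  have hs : ∀ i : ι, S.g.hom.app (op i.1) (s i) = S.X₃.obj.map i.2.1.op t :=
    fun i => Presheaf.app_localPreimage S.g.hom (U := op W) t i.2.1 i.2.2
  have hcov : ∀ x : ↥(W.left), ∃ (i : ι) (y : ↥((Uf i).left.left)), (Uf i).hom.left.base y = x := fun x => by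
    have hR' := hR
    rw [Groth.Agent.EtSite.mem_et_iff] at hR'
    obtain ⟨V, g, v, hg, hv⟩ := hR' x
    exact ⟨⟨V, g, hg⟩, v, hv⟩
  let π0 : ∀ b : Fin 1 → ι, (pr Uf b).left ⟶ (b 0).1 := fun b => (Pi.π (Uf ∘ b) 0).left
  let c : ∀ b : Fin 1 → ι, S.X₂.obj.obj (op (pr Uf b).left) := fun b => S.X₂.obj.map (π0 b).op (s (b 0))
  have hπ : ∀ b, π0 b ≫ (b 0).2.1 = (pr Uf b).hom := fun b => Over.w (Pi.π (Uf ∘ b) 0)
  have hgc : ∀ b, S.g.hom.app _ (c b) = S.X₃.obj.map (pr Uf b).hom.op t := fun b => by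
    refine (NatTrans.naturality_apply S.g.hom (π0 b).op (s (b 0))).trans ?_
    rw [hs, ← Functor.map_comp_apply, ← op_comp, hπ]
  have hg0 : ∀ a, S.g.hom.app _ (dCochain Uf S.X₂.obj c a) = 0 := fun a => by
    rw [dCochain_nat]
    simp only [hgc]
    rw [dCochain, Fin.sum_univ_two]
    simp only [← Functor.map_comp_apply, ← op_comp, Over.w, Fin.val_zero, Fin.val_one, pow_zero, pow_one,
      one_zsmul, neg_smul, add_neg_cancel]
  choose k hk using fun a => hexA _ _ (hg0 a)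
  have hdk : dCochain Uf S.X₁.obj k = 0 := funext fun a => hinjA _ (by
    rw [Pi.zero_apply, map_zero, dCochain_nat, show (fun b => S.f.hom.app _ (k b)) = dCochain Uf S.X₂.obj c
      from funext hk]
    exact congrFun (dCochain_dCochain Uf S.X₂.obj c) a)
  obtain ⟨y, hy⟩ := exists_of_isZero Uf S.X₁.obj (h1 W ι Uf hcov 1 Nat.one_pos) k hdk
  let c' : ∀ b : Fin 1 → ι, S.X₂.obj.obj (op (pr Uf b).left) := c - fun b => S.f.hom.app _ (y b)
  have hc' : ∀ a, dCochain Uf S.X₂.obj c' a = 0 := fun a => by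
    rw [dCochain_sub, ← dCochain_nat, hy, hk, sub_self]
  let e : ∀ i : ι, i.1 ⟶ (pr Uf fun _ : Fin 1 => i).left := fun i =>
    (Pi.lift fun _ => 𝟙 (Uf i) : Uf i ⟶ pr Uf fun _ : Fin 1 => i).left
  have he : ∀ i, e i ≫ (pr Uf fun _ : Fin 1 => i).hom = i.2.1 := fun i =>
    Over.w (Pi.lift fun _ => 𝟙 (Uf i) : Uf i ⟶ pr Uf fun _ : Fin 1 => i)
  let x : Presieve.FamilyOfElements (S.X₂.obj ⋙ forget AddCommGrpCat.{u + 1}) R.arrows :=
    fun V g hg => S.X₂.obj.map (e ⟨V, g, hg⟩).op (c' fun _ => ⟨V, g, hg⟩)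
  have hx : x.Compatible := by
    intro V₁ V₂ Z g₁ g₂ f₁ f₂ h₁ h₂ hcomp
    let i : ι := ⟨V₁, f₁, h₁⟩
    let j : ι := ⟨V₂, f₂, h₂⟩
    let a : Fin 2 → ι := ![i, j]
    let m : Over.mk (g₁ ≫ f₁) ⟶ pr Uf a := Pi.lift (Fin.cons (Over.homMk g₁ rfl)
      (Fin.cons (Over.homMk g₂ hcomp.symm) finZeroElim))
    have hm0 : m.left ≫ (Pi.π (Uf ∘ a) 0).left = g₁ :=
      (Over.comp_left _ _ _ _ _).symm.trans (congrArg Over.Hom.left (Pi.lift_π _ 0))
    have hm1 : m.left ≫ (Pi.π (Uf ∘ a) 1).left = g₂ :=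
      (Over.comp_left _ _ _ _ _).symm.trans (congrArg Over.Hom.left (Pi.lift_π _ 1))
    have hd := congrArg (S.X₂.obj.map m.left.op) (hc' a)
    rw [map_zero, dCochain, Fin.sum_univ_two, map_add, map_zsmul, map_zsmul] at hd
    simp only [Fin.val_zero, Fin.val_one, pow_zero, pow_one, one_zsmul, neg_smul, ← sub_eq_add_neg,
      sub_eq_zero, ← Functor.map_comp_apply, ← op_comp] at hd
    show S.X₂.obj.map g₁.op (S.X₂.obj.map (e i).op (c' fun _ => i)) =
      S.X₂.obj.map g₂.op (S.X₂.obj.map (e j).op (c' fun _ => j))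
    rw [← Functor.map_comp_apply, ← Functor.map_comp_apply, ← op_comp, ← op_comp]
    have key : ∀ (q : Fin 2) (g : Z ⟶ (a q).1) (b : Fin 1 → ι) (hb : (fun _ : Fin 1 => a q) = b)
        (z : Z ⟶ (pr Uf b).left), m.left ≫ (Pi.π (Uf ∘ a) q).left = g →
        (∀ l, z ≫ (Pi.π (Uf ∘ b) l).left ≫ eqToHom (by subst hb; rfl) = g) →
        S.X₂.obj.map (g ≫ e (a q)).op (c' fun _ => a q) = S.X₂.obj.map z.op (c' b) := by
      intro q g b hb z hm hz
      subst hb
      refine eval_congr Uf S.X₂.obj c' rfl _ _ fun l => ?_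
      refine (Category.assoc _ _ _).trans ((congrArg (g ≫ ·) ((Over.comp_left _ _ _ _ _).symm.trans
        (congrArg Over.Hom.left (Pi.lift_π (fun _ : Fin 1 => 𝟙 (Uf (a q))) l)))).trans ?_)
      refine (Category.comp_id _).trans ?_
      exact (hz l).symm
    have hface : ∀ (q : Fin 2) (l : Fin 1), m.left ≫ (prFace Uf a q).left ≫
        (Pi.π (Uf ∘ a ∘ q.succAbove) l).left = m.left ≫ (Pi.π (Uf ∘ a) (q.succAbove l)).left := fun q l =>
      congrArg (m.left ≫ ·) ((Over.comp_left _ _ _ _ _).symm.trans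
        (congrArg Over.Hom.left (Pi.lift_π (f := Uf ∘ a ∘ q.succAbove) (fun k => Pi.π (Uf ∘ a) (q.succAbove k)) l)))
    refine (key 0 g₁ (a ∘ (1 : Fin 2).succAbove) ?_ (m.left ≫ (prFace Uf a 1).left) hm0 ?_).trans
      (hd.symm.trans (key 1 g₂ (a ∘ (0 : Fin 2).succAbove) ?_ (m.left ≫ (prFace Uf a 0).left) hm1 ?_).symm)
    · funext l; fin_cases l; rfl
    · intro l
      fin_cases l
      exact (congrArg (_ ≫ ·) (Category.comp_id _)).trans
        ((Category.assoc _ _ _).trans ((hface 1 0).trans hm0))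
    · funext l; fin_cases l; rfl
    · intro l
      fin_cases l
      exact (congrArg (_ ≫ ·) (Category.comp_id _)).trans
        ((Category.assoc _ _ _).trans ((hface 0 0).trans hm1))
  obtain ⟨T, hT, -⟩ := ((isSheaf_iff_isSheaf_of_type _ _).1
    ((Presheaf.isSheaf_iff_isSheaf_forget _ S.X₂.obj (forget _)).1 S.X₂.property)) R hR x hx
  refine ⟨T, (((isSheaf_iff_isSheaf_of_type _ _).1
    ((Presheaf.isSheaf_iff_isSheaf_forget _ S.X₃.obj (forget _)).1 S.X₃.property)) R hR).isSeparatedFor.ext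
      fun V g hg => ?_⟩
  let i : ι := ⟨V, g, hg⟩
  show S.X₃.obj.map g.op (S.g.hom.app (op W) T) = S.X₃.obj.map g.op t
  rw [← NatTrans.naturality_apply, show S.X₂.obj.map g.op T = _ from hT g hg]
  refine (NatTrans.naturality_apply S.g.hom (e i).op (c' fun _ => i)).trans ?_
  have hzero : S.g.hom.app (op (pr Uf fun _ : Fin 1 => i).left) (c' fun _ => i) =
      S.X₃.obj.map (pr Uf fun _ : Fin 1 => i).hom.op t := by
    show S.g.hom.app _ (c _ - S.f.hom.app _ (y _)) = _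
    rw [map_sub, hgc, ← ConcreteCategory.comp_apply (S.f.hom.app _), ← NatTrans.comp_app,
      ← ObjectProperty.FullSubcategory.comp_hom, S.zero]
    exact sub_zero _
  rw [hzero, ← Functor.map_comp_apply, ← op_comp, he]

theorem isZero_X₃ (S : ShortComplex (EtCoh.Ab X)) (hS : S.ShortExact) (h1 : Acyclic S.X₁)
    (h2 : Acyclic S.X₂) : Acyclic S.X₃ := by
  intro U ι Uf hU p hp
  obtain ⟨hex, hmono⟩ := exact_mono_presheaf S hS
  let P := S.map (sheafToPresheaf X.smallEtaleTopology AddCommGrpCat.{u + 1})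
  haveI : Epi P.g := by
    rw [NatTrans.epi_iff_epi_app]
    exact fun V => (AddCommGrpCat.epi_iff_surjective _).2 (exists_section_lift S hS h1 V.unop)
  haveI : Mono P.f := hmono
  have hP : P.ShortExact := { exact := hex }
  refine ((cechT Uf).exact₃ P hP p (p + 1) rfl).isZero_X₂ ?_ ?_
  · exact (h2 U ι Uf hU p hp).eq_of_src _ _
  · exact (h1 U ι Uf hU (p + 1) (Nat.succ_pos p)).eq_of_tgt _ _

end Groth.Agent.Cech24
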